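import Groth.Prelude.Def_W4c2submetdescSubtr
import Groth.Agent.VCov.Basic
import Groth.Agent.ProConsLib.Scheme
import Groth.Agent.ProConsLib.Realize
import Groth.Agent.LimSch.ClosureRange
import Mathlib.RingTheory.Flat.TorsionFree
import Mathlib.RingTheory.RingHom.FaithfullyFlat

/-!
# S-subtrusive morphisms: valuative criterion, pro-constructible sets
-/

set_option autoImplicit false
set_option linter.style.haveILetI false
set_option backward.isDefEq.respectTransparency.types false

universe u

open CategoryTheory CategoryTheory.Limits AlgebraicGeometry TopologicalSpace ProCons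

namespace Groth.Agent.SubtrLib

variable {X Y : Scheme.{u}}

/-- After base change to any valuation ring, some specialization lies over generic ⤳ closed. -/
def HasPairs (f : X ⟶ Y) : Prop :=
  ∀ (V : Type u) [CommRing V] [IsDomain V] [ValuationRing V] (g : Spec (CommRingCat.of V) ⟶ Y),
    ∃ w' w : ↥(pullback f g), w' ⤳ w ∧
      pullback.snd f g w' = (⟨⊥, Ideal.isPrime_bot⟩ : PrimeSpectrum V) ∧
      pullback.snd f g w = IsLocalRing.closedPoint V

theorem univ_iff (f : X ⟶ Y) : Subtr.UnivSSubtrusive f ↔ HasPairs f := by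
  constructor
  · intro h V _ _ _ g
    obtain ⟨x, x', hxx, hx, hx'⟩ := h (pullback.fst f g) g (pullback.snd f g)
      (IsPullback.of_hasPullback f g).flip (y := IsLocalRing.closedPoint V)
      (y' := (⟨⊥, Ideal.isPrime_bot⟩ : PrimeSpectrum V)) (VCov.specializes_closedPt (R := CommRingCat.of V) _)
    exact ⟨x', x, hxx, hx', hx⟩
  · intro h X' Y' i₁ i₂ f' hsq y y' hy
    obtain ⟨W, _, _, m, hmc, hmg⟩ := VCov.exists_valuation_of_specializes hy
    obtain ⟨w', w, hw, hw', hwc⟩ := h W (m ≫ i₂)
    let l : pullback f (m ≫ i₂) ⟶ X' := hsq.lift (pullback.snd _ _ ≫ m) (pullback.fst _ _)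
      (by rw [Category.assoc, pullback.condition])
    have hl : l ≫ f' = pullback.snd f (m ≫ i₂) ≫ m := hsq.lift_fst _ _ _
    refine ⟨l w, l w', hw.map l.continuous, ?_, ?_⟩
    · rw [← Scheme.Hom.comp_apply, hl, Scheme.Hom.comp_apply, hwc]; exact hmc
    · rw [← Scheme.Hom.comp_apply, hl, Scheme.Hom.comp_apply, hw']; exact hmg

theorem isSSubtrusive_of_univ {f : X ⟶ Y} (h : Subtr.UnivSSubtrusive f) : Subtr.IsSSubtrusive f :=
  h (𝟙 X) (𝟙 Y) f IsPullback.of_id_snd

theorem surjective_of_isSSubtrusive {f : X ⟶ Y} (h : Subtr.IsSSubtrusive f) :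
    Function.Surjective f := fun y ↦ by
  obtain ⟨x, -, -, hx, -⟩ := h (specializes_refl y)
  exact ⟨x, hx⟩

section Valuation

variable {V W : Type u} [CommRing V] [IsDomain V] [ValuationRing V] [CommRing W] [IsDomain W]
  [ValuationRing W]

/-- An extension of valuation rings is surjective on spectra. -/
theorem surjective_of_extension (b : Spec (CommRingCat.of W) ⟶ Spec (CommRingCat.of V))
    (h₀ : b (⟨⊥, Ideal.isPrime_bot⟩ : PrimeSpectrum W) = (⟨⊥, Ideal.isPrime_bot⟩ : PrimeSpectrum V))
    (h₁ : b (IsLocalRing.closedPoint W) = IsLocalRing.closedPoint V) : Surjective b := by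
  obtain ⟨φ, rfl⟩ := Spec.map_surjective b
  algebraize [φ.hom]
  have hinj : Function.Injective φ.hom := (RingHom.injective_iff_ker_eq_bot _).mpr
    (congrArg PrimeSpectrum.asIdeal h₀)
  haveI : IsLocalHom (algebraMap V W) :=
    ((IsLocalRing.local_hom_TFAE φ.hom).out 0 4).mpr (congrArg PrimeSpectrum.asIdeal h₁)
  haveI : FaithfulSMul V W := (faithfulSMul_iff_algebraMap_injective V W).mpr hinj
  haveI : Module.Flat V W := by
    rw [Module.Flat.flat_iff_torsion_eq_bot_of_isBezout, ← Submodule.isTorsionFree_iff_torsion_eq_bot]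
    infer_instance
  haveI : Module.FaithfullyFlat V W := Module.FaithfullyFlat.of_flat_of_isLocalHom
  exact ⟨PrimeSpectrum.comap_surjective_of_faithfullyFlat (A := V) (B := W)⟩

/-- A surjection between spectra of valuation rings sends the closed point to the closed point. -/
theorem closedPoint_eq_of_surjective (b : Spec (CommRingCat.of W) ⟶ Spec (CommRingCat.of V))
    [Surjective b] : b (IsLocalRing.closedPoint W) = IsLocalRing.closedPoint V := by
  obtain ⟨u, hu⟩ := b.surjective (IsLocalRing.closedPoint V)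
  have h : IsLocalRing.closedPoint V ⤳ b (IsLocalRing.closedPoint W) :=
    hu ▸ (VCov.specializes_closedPt (R := CommRingCat.of W) u).map b.continuous
  exact ((VCov.specializes_closedPt (R := CommRingCat.of V) _).antisymm h).eq

end Valuation

section Pro

/-- A point in the closure of a pro-constructible set specializes from a point of it. -/
theorem exists_specializes_of_mem_closure {E : Set X} (hE : IsProConstructible E) {x : X}
    (hx : x ∈ closure E) : ∃ e ∈ E, e ⤳ x := by
  obtain ⟨U, hU, hxU, -⟩ := ProConsLib.exists_affine_subset isOpen_univ (Set.mem_univ x)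
  haveI : IsAffine U.toScheme := hU
  obtain ⟨X', g, _, hg⟩ := ProConsLib.exists_affine_range (ProConsLib.isPro_preimage U.ι hE)
  have hx' : (⟨x, hxU⟩ : U.toScheme) ∈ closure (Set.range g) := by
    rw [hg, U.ι.isOpenEmbedding.isInducing.closure_eq_preimage_closure_image]
    change x ∈ closure (U.ι '' (U.ι ⁻¹' E))
    rw [Set.image_preimage_eq_inter_range, Scheme.Opens.range_ι, Set.inter_comm]
    exact U.2.inter_closure ⟨hxU, hx⟩
  obtain ⟨z, hz⟩ := LimSch.exists_specializes_of_mem_closure_range g hx'
  exact ⟨U.ι (g z), hg.le ⟨z, rfl⟩, hz.map U.ι.continuous⟩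

theorem isClosed_of_isPro {E : Set X} (hE : IsProConstructible E)
    (hs : StableUnderSpecialization E) : IsClosed E := by
  refine isClosed_of_closure_subset fun x hx ↦ ?_
  obtain ⟨e, he, hex⟩ := exists_specializes_of_mem_closure hE hx
  exact hs hex he

theorem isPro_of_isClosed {E : Set X} (hE : IsClosed E) : IsProConstructible E :=
  ProConsLib.isPro_iff_compl.2 (ProConsLib.isInd_of_isOpen hE.isOpen_compl)

theorem isPro_singleton (x : X) : IsProConstructible ({x} : Set X) := by
  refine ProConsLib.isPro_of_affine fun y ↦ ?_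
  obtain ⟨U, hU, hyU, -⟩ := ProConsLib.exists_affine_subset isOpen_univ (Set.mem_univ y)
  refine ⟨U, hU, hyU, ?_⟩
  haveI : IsAffine U.toScheme := hU
  by_cases hx : x ∈ U
  · have he : U.ι ⁻¹' ({x} : Set X) = Set.range (U.toScheme.fromSpecResidueField ⟨x, hx⟩) := by
      rw [Scheme.range_fromSpecResidueField]
      ext z
      exact ⟨fun h ↦ Subtype.ext h, fun h ↦ congrArg Subtype.val h⟩
    have h := ProConsLib.isPro_range (U.toScheme.fromSpecResidueField ⟨x, hx⟩)
    rw [← he] at h
    haveI := ProConsLib.spectralSpace_of_isAffine U.toScheme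
    exact ProConsLib.isClosed_con_preimage_of_isPro (g := fun z ↦ z)
      Topology.IsOpenEmbedding.id h
  · rw [show U.ι ⁻¹' ({x} : Set X) = ∅ from Set.eq_empty_of_forall_notMem fun z hz ↦
      hx (by rw [← show U.ι z = x from hz]; exact z.2)]
    exact @isClosed_empty _ (constructibleTopology U.toScheme)

end Pro

/-- Valuation lifting of a universally S-subtrusive morphism. -/
theorem exists_lift_of_univ {f : X ⟶ Y} (h : Subtr.UnivSSubtrusive f) (V : Type u) [CommRing V]
    [IsDomain V] [ValuationRing V] (g : Spec (CommRingCat.of V) ⟶ Y) :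
    ∃ (V' : Type u) (_ : CommRing V') (_ : IsDomain V') (_ : ValuationRing V')
      (a : Spec (CommRingCat.of V') ⟶ X) (b : Spec (CommRingCat.of V') ⟶ Spec (CommRingCat.of V)),
      Surjective b ∧ a ≫ f = b ≫ g := by
  obtain ⟨w', w, hw, h0, h1⟩ := (univ_iff f).mp h V g
  obtain ⟨W, _, _, m, hmc, hmg⟩ := VCov.exists_valuation_of_specializes hw
  refine ⟨W, inferInstance, inferInstance, inferInstance, m ≫ pullback.fst f g,
    m ≫ pullback.snd f g, surjective_of_extension _ ?_ ?_, ?_⟩
  · rw [Scheme.Hom.comp_apply]; exact (congrArg (pullback.snd f g) hmg).trans h0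
  · rw [Scheme.Hom.comp_apply]; exact (congrArg (pullback.snd f g) hmc).trans h1
  · rw [Category.assoc, Category.assoc, pullback.condition]

/-- Valuation lifting gives universal S-subtrusiveness. -/
theorem univ_of_lift (f : X ⟶ Y) (H : ∀ (V : Type u) [CommRing V] [IsDomain V] [ValuationRing V]
    (g : Spec (CommRingCat.of V) ⟶ Y),
    ∃ (V' : Type u) (_ : CommRing V') (_ : IsDomain V') (_ : ValuationRing V')
      (a : Spec (CommRingCat.of V') ⟶ X) (b : Spec (CommRingCat.of V') ⟶ Spec (CommRingCat.of V)),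
      Surjective b ∧ a ≫ f = b ≫ g) : Subtr.UnivSSubtrusive f := by
  refine (univ_iff f).mpr fun V _ _ _ g ↦ ?_
  obtain ⟨V', _, _, _, a, b, hb, hab⟩ := H V g
  let l : Spec (CommRingCat.of V') ⟶ pullback f g := pullback.lift a b hab
  have hl : l ≫ pullback.snd f g = b := pullback.lift_snd _ _ _
  obtain ⟨u, hu⟩ := b.surjective (⟨⊥, Ideal.isPrime_bot⟩ : PrimeSpectrum V)
  refine ⟨l u, l (IsLocalRing.closedPoint V'),
    (VCov.specializes_closedPt (R := CommRingCat.of V') u).map l.continuous, ?_, ?_⟩
  · rw [← Scheme.Hom.comp_apply, hl]; exact hu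
  · rw [← Scheme.Hom.comp_apply, hl]; exact closedPoint_eq_of_surjective b

end Groth.Agent.SubtrLib
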