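import Groth.Agent.SubtrLib.DVRPair
import Groth.Agent.SubtrLib.Basic
import Groth.Agent.S14766
import Groth.Agent.GeomIrredStrata.Components
import Mathlib.AlgebraicGeometry.Noetherian

/-!
# Universally submersive and universally subtrusive morphisms over noetherian bases
-/

set_option autoImplicit false

universe u

open CategoryTheory CategoryTheory.Limits AlgebraicGeometry
open scoped TensorProduct

namespace Groth.Agent.SubtrLib

variable {X Y : Scheme.{u}}

/-- A quasi-compact morphism lifting pairs is submersive. -/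
theorem isQuotientMap_of_isSSubtrusive (f : X ⟶ Y) [QuasiCompact f] (h : Subtr.IsSSubtrusive f) :
    Topology.IsQuotientMap f := by
  have hs := surjective_of_isSSubtrusive h
  refine Topology.isQuotientMap_iff_isClosed.2 ⟨hs, fun C => ⟨fun hC => hC.preimage f.continuous, fun hC => ?_⟩⟩
  refine isClosed_of_isPro ?_ fun a b hab ha => ?_
  · rw [← Set.image_preimage_eq C hs]
    exact ProConsLib.isPro_image f (isPro_of_isClosed hC)
  · obtain ⟨x, x', hxx, hx, hx'⟩ := h hab
    have : x' ∈ f ⁻¹' C := show f x' ∈ C from hx' ▸ ha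
    exact hx ▸ hxx.mem_closed hC this

theorem univSubmersive_of_univ (f : X ⟶ Y) [QuasiCompact f] (h : Subtr.UnivSSubtrusive f) :
    SGA1.UnivSubmersive f := fun _ _ _ _ f' sq =>
  have : QuasiCompact f' := MorphismProperty.of_isPullback sq.flip (inferInstance : QuasiCompact f)
  isQuotientMap_of_isSSubtrusive f' (h _ _ _ sq)

/-- Finitely many affine pieces. -/
theorem exists_pieces_qc {A : Type u} [CommRing A] {Z : Scheme.{u}} (p : Z ⟶ Spec (CommRingCat.of A))
    [QuasiCompact p] : ∃ (ι : Type u) (_ : Finite ι) (B : ι → Type u) (_ : ∀ j, CommRing (B j))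
      (_ : ∀ j, Algebra A (B j)) (js : ∀ j, Spec (CommRingCat.of (B j)) ⟶ Z) (_ : ∀ j, IsOpenImmersion (js j)),
      (∀ j, js j ≫ p = Spec.map (CommRingCat.ofHom (algebraMap A (B j)))) ∧
      ∀ x : Z, ∃ j, x ∈ Set.range (js j) := by
  have : CompactSpace Z := QuasiCompact.compactSpace_of_compactSpace p
  let 𝒰 := Z.affineCover.finiteSubcover
  have haff : ∀ j, IsAffine (𝒰.X j) := fun j => inferInstanceAs (IsAffine (Spec _))
  let B : 𝒰.I₀ → CommRingCat.{u} := fun j => Γ(𝒰.X j, ⊤)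
  let js : ∀ j, Spec (B j) ⟶ Z := fun j => (𝒰.X j).isoSpec.inv ≫ 𝒰.f j
  let alg : ∀ j, Algebra A (B j) := fun j => (Spec.preimage (js j ≫ p)).hom.toAlgebra
  have hjs : ∀ j, js j ≫ p = Spec.map (CommRingCat.ofHom (algebraMap A (B j))) := fun j =>
    (Spec.map_preimage _).symm
  refine ⟨𝒰.I₀, inferInstance, fun j => B j, inferInstance, alg, js, inferInstance, hjs, fun x => ?_⟩
  obtain ⟨j, y, rfl⟩ := 𝒰.exists_eq x
  refine ⟨j, (𝒰.X j).isoSpec.hom y, ?_⟩
  show ((𝒰.X j).isoSpec.inv ≫ 𝒰.f j) _ = _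
  rw [← Scheme.Hom.comp_apply, Iso.hom_inv_id_assoc]

/-- Failure of lifting pairs is seen by a discrete valuation ring. -/
theorem exists_dvr_of_not_univ [IsLocallyNoetherian Y] (f : X ⟶ Y) [QuasiCompact f]
    (h : ¬ Subtr.UnivSSubtrusive f) :
    ∃ (D : Type u) (_ : CommRing D) (_ : IsDomain D) (_ : IsDiscreteValuationRing D)
      (g : Spec (CommRingCat.of D) ⟶ Y), ∀ w' w : ↥(pullback f g), w' ⤳ w →
        pullback.snd f g w' = (⟨⊥, Ideal.isPrime_bot⟩ : PrimeSpectrum D) →
        pullback.snd f g w ≠ IsLocalRing.closedPoint D := by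
  classical
  rw [univ_iff, HasPairs] at h
  push Not at h
  obtain ⟨V, _, _, _, g, hg⟩ := h
  obtain ⟨(U : Y.Opens), hU, hy, -⟩ := TopologicalSpace.Opens.isBasis_iff_nbhd.mp Y.isBasis_affineOpens
    (show g (IsLocalRing.closedPoint V) ∈ (⊤ : Y.Opens) from trivial)
  let A : CommRingCat.{u} := Γ(Y, U)
  have : IsNoetherianRing A := IsLocallyNoetherian.component_noetherian (⟨U, hU⟩ : Y.affineOpens)
  let i : Spec A ⟶ Y := hU.fromSpec
  have hrange : Set.range g ⊆ Set.range i := by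
    rintro _ ⟨(v : PrimeSpectrum V), rfl⟩
    rw [hU.range_fromSpec]
    have hv : v ⤳ IsLocalRing.closedPoint V := IsLocalRing.specializes_closedPoint v
    exact (hv.map g.continuous).mem_open U.2 hy
  obtain ⟨φ, hφ⟩ := Spec.map_surjective (IsOpenImmersion.lift i g hrange)
  have hgi : Spec.map φ ≫ i = g := by rw [hφ, IsOpenImmersion.lift_fac]
  let : Algebra A V := φ.hom.toAlgebra
  let fA : pullback f i ⟶ Spec (CommRingCat.of A) := pullback.snd f i
  have : QuasiCompact fA := MorphismProperty.pullback_snd _ _ (inferInstance : QuasiCompact f)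
  obtain ⟨ι, _, B, _, _, js, _, hjs, hcov⟩ := exists_pieces_qc fA
  clear hφ
  subst hgi
  have hno : ∀ w' w : ↥(GeomIrredStrata.bc fA V), w' ⤳ w →
      pullback.snd fA _ w' = (⟨⊥, Ideal.isPrime_bot⟩ : PrimeSpectrum V) →
      pullback.snd fA _ w ≠ IsLocalRing.closedPoint V := by
    intro w' w hw h0 h1
    let e : GeomIrredStrata.bc fA V ≅ pullback f (Spec.map φ ≫ i) :=
      pullbackLeftPullbackSndIso f i (Spec.map φ)
    have he : e.hom ≫ pullback.snd f (Spec.map φ ≫ i) = pullback.snd fA (Spec.map φ) :=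
      pullbackLeftPullbackSndIso_hom_snd f i _
    exact hg (e.hom w') (e.hom w) (hw.map e.hom.continuous) (by rw [← Scheme.Hom.comp_apply, he]; exact h0)
      (by rw [← Scheme.Hom.comp_apply, he]; exact h1)
  have hNP : ∀ j, NoPair V (V ⊗[A] B j) := by
    intro j Q' Q hQ' hQ hle h0 h1
    let pm := GeomIrredStrata.pieceMap fA V (js j) (hjs j)
    have hsnd : ∀ q, pullback.snd fA _ (pm q) = PrimeSpectrum.comap (algebraMap V (V ⊗[A] B j)) q := fun q => by
      rw [← Scheme.Hom.comp_apply, show pm ≫ pullback.snd fA _ = _ from pullback.lift_snd _ _ _]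
      rfl
    exact hno (pm ⟨Q', hQ'⟩) (pm ⟨Q, hQ⟩) (((PrimeSpectrum.le_iff_specializes ⟨Q', hQ'⟩ ⟨Q, hQ⟩).1 hle).map pm.continuous)
      ((hsnd _).trans (PrimeSpectrum.ext h0)) ((hsnd _).trans (PrimeSpectrum.ext h1))
  obtain ⟨D, _, _, _, _, hD⟩ := exists_dvr_noPair (A := A) V B hNP
  refine ⟨D, inferInstance, inferInstance, inferInstance, Spec.map (CommRingCat.ofHom (algebraMap A D)) ≫ i,
    fun w' w hw h0 h1 => ?_⟩
  let e : GeomIrredStrata.bc fA D ≅ pullback f (Spec.map (CommRingCat.ofHom (algebraMap A D)) ≫ i) :=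
    pullbackLeftPullbackSndIso f i _
  have he : e.inv ≫ pullback.snd fA _ = pullback.snd f _ := by
    rw [Iso.inv_comp_eq]; exact (pullbackLeftPullbackSndIso_hom_snd f i _).symm
  obtain ⟨j, q, hq⟩ := hcov (pullback.fst fA _ (e.inv w))
  obtain ⟨Q, hQ, -⟩ := GeomIrredStrata.exists_pieceMap fA D (js j) (hjs j) (e.inv w) q hq.symm
  let pm := GeomIrredStrata.pieceMap fA D (js j) (hjs j)
  have : IsOpenImmersion pm := GeomIrredStrata.isOpenImmersion_pieceMap fA D (js j) (hjs j)
  have hw2 : e.inv w' ⤳ pm Q := hQ ▸ hw.map e.inv.continuous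
  obtain ⟨Q', hQ'⟩ := hw2.mem_open pm.isOpenEmbedding.isOpen_range ⟨Q, rfl⟩
  rw [← hQ', pm.isOpenEmbedding.isInducing.specializes_iff] at hw2
  have hsnd : ∀ q, pullback.snd fA _ (pm q) = PrimeSpectrum.comap (algebraMap D (D ⊗[A] B j)) q := fun q => by
    rw [← Scheme.Hom.comp_apply, show pm ≫ pullback.snd fA _ = _ from pullback.lift_snd _ _ _]
    rfl
  have k0 : pullback.snd fA _ (pm Q') = (⟨⊥, Ideal.isPrime_bot⟩ : PrimeSpectrum D) := by
    rw [hQ', ← Scheme.Hom.comp_apply, he]; exact h0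
  have k1 : pullback.snd fA _ (pm Q) = IsLocalRing.closedPoint D := by
    rw [hQ, ← Scheme.Hom.comp_apply, he]; exact h1
  exact hD j Q'.asIdeal Q.asIdeal Q'.isPrime Q.isPrime ((PrimeSpectrum.le_iff_specializes _ _).2 hw2)
    (congrArg PrimeSpectrum.asIdeal ((hsnd Q').symm.trans k0))
    (congrArg PrimeSpectrum.asIdeal ((hsnd Q).symm.trans k1))

theorem univ_of_univSubmersive [IsLocallyNoetherian Y] (f : X ⟶ Y) [QuasiCompact f]
    (h : SGA1.UnivSubmersive f) : Subtr.UnivSSubtrusive f := by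
  by_contra hne
  obtain ⟨D, _, _, _, g, hg⟩ := exists_dvr_of_not_univ f hne
  have hq : Topology.IsQuotientMap (pullback.snd f g) := h _ _ _ (IsPullback.of_hasPullback f g).flip
  obtain ⟨x, x', hxx, hx, hx'⟩ := (Groth.Agent.S14766.result D (pullback.snd f g)).1 hq
    (y := IsLocalRing.closedPoint D) (y' := (⟨⊥, Ideal.isPrime_bot⟩ : PrimeSpectrum D))
    (IsLocalRing.specializes_closedPoint _)
  exact hg x' x hxx hx' hx

end Groth.Agent.SubtrLib
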