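import Mathlib.RingTheory.Valuation.LocalSubring
import Mathlib.RingTheory.Localization.AtPrime.Basic
import Mathlib.RingTheory.LocalRing.ResidueField.Basic
import Mathlib.RingTheory.Spectrum.Prime.Basic

/-!
# Valuation rings through finite chains of primes
-/

set_option autoImplicit false
set_option linter.style.haveILetI false

universe u

namespace Groth.Agent.SubtrLib

/-- The composite of a valuation ring with a valuation ring of its residue field. -/
def composite {K : Type u} [Field K] (V : ValuationSubring K)
    (W : ValuationSubring (IsLocalRing.ResidueField V)) : ValuationSubring K where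
  toSubring := (W.toSubring.comap (IsLocalRing.residue V)).map V.subtype
  mem_or_inv_mem' x := by
    by_cases hx : x ∈ V
    · by_cases hu : IsUnit (⟨x, hx⟩ : V)
      · rcases W.mem_or_inv_mem (IsLocalRing.residue V ⟨x, hx⟩) with h | h
        · exact Or.inl ⟨⟨x, hx⟩, h, rfl⟩
        · obtain ⟨v, hv⟩ := hu
          refine Or.inr ⟨(v⁻¹ : Vˣ), ?_, ?_⟩
          · change IsLocalRing.residue V ((v⁻¹ : Vˣ) : V) ∈ W
            rw [map_units_inv, hv]
            exact h
          · rw [map_units_inv, hv]; rfl
      · refine Or.inl ⟨⟨x, hx⟩, ?_, rfl⟩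
        change IsLocalRing.residue V ⟨x, hx⟩ ∈ W
        rw [(IsLocalRing.residue_eq_zero_iff _).mpr ((IsLocalRing.mem_maximalIdeal _).mpr hu)]
        exact W.zero_mem
    · have hx' := (V.mem_or_inv_mem x).resolve_left hx
      refine Or.inr ⟨⟨x⁻¹, hx'⟩, ?_, rfl⟩
      change IsLocalRing.residue V ⟨x⁻¹, hx'⟩ ∈ W
      have hu : ¬ IsUnit (⟨x⁻¹, hx'⟩ : V) := by
        rintro ⟨v, hv⟩
        apply hx
        have h1 : ((v : V) : K) * ((v⁻¹ : Vˣ) : V) = 1 := congrArg Subtype.val v.mul_inv
        rw [show ((v : V) : K) = x⁻¹ from congrArg Subtype.val hv] at h1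
        have h2 : (((v⁻¹ : Vˣ) : V) : K) = x := by
          by_cases h0 : x = 0
          · exact absurd (h0 ▸ V.zero_mem) hx
          · field_simp at h1
            exact h1
        exact h2 ▸ SetLike.coe_mem _
      rw [(IsLocalRing.residue_eq_zero_iff _).mpr ((IsLocalRing.mem_maximalIdeal _).mpr hu)]
      exact W.zero_mem

lemma composite_le {K : Type u} [Field K] (V : ValuationSubring K)
    (W : ValuationSubring (IsLocalRing.ResidueField V)) {x : K} (hx : x ∈ composite V W) :
    ∃ h : x ∈ V, IsLocalRing.residue V ⟨x, h⟩ ∈ W := by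
  obtain ⟨v, hv, rfl⟩ := hx
  exact ⟨v.2, hv⟩

/-- The reduction map of the composite. -/
noncomputable def reduce {K : Type u} [Field K] (V : ValuationSubring K)
    (W : ValuationSubring (IsLocalRing.ResidueField V)) : composite V W →+* W :=
  ((IsLocalRing.residue V).comp
    ((composite V W).subtype.codRestrict V.toSubring fun x ↦ (composite_le V W x.2).1)).codRestrict
      W.toSubring fun x ↦ (composite_le V W x.2).2

/-- A valuation ring with a chain of primes over a given chain. -/
theorem exists_valuationRing_chain {A : Type u} [CommRing A] :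
    ∀ (n : ℕ) (q : Fin (n + 1) → Ideal A) (_ : ∀ i, (q i).IsPrime) (_ : Monotone q)
      (K : Type u) [Field K] (φ : A →+* K) (_ : RingHom.ker φ = q 0),
      ∃ (W : ValuationSubring K) (ψ : A →+* W) (_ : W.subtype.comp ψ = φ)
        (P : Fin (n + 1) → PrimeSpectrum W),
        Monotone P ∧ ∀ i, (P i).asIdeal.comap ψ = q i
  | 0, q, _, _, K, _, φ, hφ =>
    ⟨⊤, φ.codRestrict (⊤ : ValuationSubring K).toSubring fun _ ↦ ValuationSubring.mem_top _,
      RingHom.ext fun _ ↦ rfl, fun _ ↦ ⟨⊥, Ideal.isPrime_bot⟩, monotone_const, fun i ↦ by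
        rw [← RingHom.ker_eq_comap_bot, Fin.fin_one_eq_zero i, ← hφ]
        ext a
        exact Subtype.ext_iff⟩
  | n + 1, q, hq, hm, K, _, φ, hφ => by
    haveI := hq 1
    have hunit : ∀ a : (q 1).primeCompl, IsUnit (φ a) := fun a ↦ by
      refine isUnit_iff_ne_zero.mpr fun h ↦ a.2 (hm (Fin.zero_le _) ?_)
      rw [← hφ]
      exact h
    let β : Localization.AtPrime (q 1) →+* K := IsLocalization.lift hunit
    have hβ : ∀ a, β (algebraMap A _ a) = φ a := IsLocalization.lift_eq hunit
    obtain ⟨V, hV, hloc⟩ := IsLocalRing.exists_factor_valuationRing β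
    let α : Localization.AtPrime (q 1) →+* V := β.codRestrict V.toSubring hV
    haveI : IsLocalHom α := hloc
    let φ' : A →+* IsLocalRing.ResidueField V :=
      (IsLocalRing.residue V).comp (α.comp (algebraMap A _))
    have hker : RingHom.ker φ' = q 1 := by
      ext a
      rw [RingHom.mem_ker, ← IsLocalization.AtPrime.to_map_mem_maximal_iff
        (Localization.AtPrime (q 1)) (q 1) a, IsLocalRing.mem_maximalIdeal, mem_nonunits_iff]
      simp only [φ', RingHom.comp_apply, IsLocalRing.residue_eq_zero_iff,
        IsLocalRing.mem_maximalIdeal, mem_nonunits_iff, isUnit_map_iff]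
    obtain ⟨W, ψ, hψ, P, hP, hPq⟩ := exists_valuationRing_chain n (fun i ↦ q i.succ)
      (fun i ↦ hq i.succ) (fun i j hij ↦ hm (Fin.succ_le_succ_iff.mpr hij))
      (IsLocalRing.ResidueField V) φ' hker
    have hmem : ∀ a, φ a ∈ composite V W := fun a ↦ by
      refine ⟨α (algebraMap A _ a), ?_, hβ a⟩
      change φ' a ∈ W
      rw [← hψ]
      exact (ψ a).2
    let ψ₁ : A →+* composite V W := φ.codRestrict (composite V W).toSubring hmem
    have hred : (reduce V W).comp ψ₁ = ψ := by
      refine RingHom.ext fun a ↦ Subtype.ext ?_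
      refine Eq.trans ?_ (congr($hψ a)).symm
      change IsLocalRing.residue V ⟨φ a, _⟩ = IsLocalRing.residue V (α (algebraMap A _ a))
      exact congrArg _ (Subtype.ext (hβ a).symm)
    refine ⟨composite V W, ψ₁, RingHom.ext fun _ ↦ rfl,
      Fin.cases ⟨⊥, Ideal.isPrime_bot⟩ fun i ↦ PrimeSpectrum.comap (reduce V W) (P i), ?_, ?_⟩
    · intro i j hij
      induction i using Fin.cases with
      | zero => exact (bot_le : (⊥ : Ideal (composite V W)) ≤ _)
      | succ i =>
        induction j using Fin.cases with
        | zero => exact absurd hij (by simp)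
        | succ j => exact fun x hx ↦ hP (Fin.succ_le_succ_iff.mp hij) hx
    · intro i
      induction i using Fin.cases with
      | zero =>
        rw [← hφ]
        ext a
        exact Subtype.ext_iff
      | succ i =>
        rw [← hPq i, ← hred]
        rfl

end Groth.Agent.SubtrLib
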