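import Groth.Agent.SubtrLib.Basic
import Groth.Agent.SubtrLib.Chain
import Mathlib.AlgebraicGeometry.AffineScheme

/-!
# Lifting finite chains of specializations along universally S-subtrusive morphisms
-/

set_option autoImplicit false
set_option linter.style.haveILetI false
set_option backward.isDefEq.respectTransparency.types false

universe u

open CategoryTheory CategoryTheory.Limits AlgebraicGeometry TopologicalSpace

namespace Groth.Agent.SubtrLib

variable {X Y : Scheme.{u}}

theorem exists_chain_lift {f : X ⟶ Y} (hf : Subtr.UnivSSubtrusive f) (n : ℕ) (y : Fin (n + 1) → Y)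
    (hy : ∀ i j : Fin (n + 1), i ≤ j → y i ⤳ y j) :
    ∃ x : Fin (n + 1) → X, (∀ i j : Fin (n + 1), i ≤ j → x i ⤳ x j) ∧ ∀ i, f (x i) = y i := by
  obtain ⟨U, hU, hmem, -⟩ := ProConsLib.exists_affine_subset isOpen_univ (Set.mem_univ (y (Fin.last n)))
  have hyU : ∀ i, y i ∈ U := fun i ↦ (hy i _ (Fin.le_last i)).mem_open U.2 hmem
  let q : Fin (n + 1) → Ideal Γ(Y, U) := fun i ↦ (hU.primeIdealOf ⟨y i, hyU i⟩).asIdeal
  have hq : ∀ i, (q i).IsPrime := fun i ↦ (hU.primeIdealOf ⟨y i, hyU i⟩).isPrime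
  have hqm : Monotone q := fun i j hij ↦ by
    have hs : hU.primeIdealOf ⟨y i, hyU i⟩ ⤳ hU.primeIdealOf ⟨y j, hyU j⟩ := by
      apply (hU.fromSpec.isOpenEmbedding.isInducing.specializes_iff).mp
      rw [hU.fromSpec_primeIdealOf, hU.fromSpec_primeIdealOf]
      exact hy i j hij
    exact (PrimeSpectrum.le_iff_specializes _ _).mpr hs
  haveI := hq 0
  let K := FractionRing (Γ(Y, U) ⧸ q 0)
  let φ : Γ(Y, U) →+* K := (algebraMap (Γ(Y, U) ⧸ q 0) K).comp (Ideal.Quotient.mk (q 0))
  have hφ : RingHom.ker φ = q 0 := by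
    ext a
    simp [φ, RingHom.mem_ker, Ideal.Quotient.eq_zero_iff_mem]
  obtain ⟨W, ψ, -, P, hP, hPq⟩ := exists_valuationRing_chain n q hq hqm K φ hφ
  let g : Spec (CommRingCat.of W) ⟶ Y := Spec.map (CommRingCat.ofHom ψ) ≫ hU.fromSpec
  have hg : ∀ i, g (P i) = y i := fun i ↦ by
    have : Spec.map (CommRingCat.ofHom ψ) (P i) = hU.primeIdealOf ⟨y i, hyU i⟩ :=
      PrimeSpectrum.ext (hPq i)
    rw [Scheme.Hom.comp_apply, this, hU.fromSpec_primeIdealOf]
  obtain ⟨V', _, _, _, a, b, hb, hab⟩ := exists_lift_of_univ hf W g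
  let Q : Fin (n + 1) → Spec (CommRingCat.of V') := fun i ↦ Function.surjInv b.surjective (P i)
  have hQ : ∀ i, b (Q i) = P i := fun i ↦ Function.surjInv_eq b.surjective _
  refine ⟨fun i ↦ a (Q i), fun i j hij ↦ ?_, fun i ↦ ?_⟩
  · refine Specializes.map ?_ a.continuous
    rcases (ValuationRing.iff_ideal_total.mp (inferInstance : ValuationRing V')).total (Q i).asIdeal (Q j).asIdeal with h | h
    · exact (PrimeSpectrum.le_iff_specializes (Q i) (Q j)).mp h
    · have h1 : (P j) ⤳ (P i) := by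
        have h2 := ((PrimeSpectrum.le_iff_specializes (Q j) (Q i)).mp h).map b.continuous
        rw [hQ, hQ] at h2
        exact h2
      have h3 : P i = P j := le_antisymm (hP hij) ((PrimeSpectrum.le_iff_specializes _ _).mpr h1)
      have : Q i = Q j := congrArg (Function.surjInv b.surjective) h3
      rw [this]
  · rw [← Scheme.Hom.comp_apply, hab, Scheme.Hom.comp_apply, hQ, hg]

end Groth.Agent.SubtrLib
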