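import Groth.Agent.DVRDom.Scheme
import Mathlib.RingTheory.PowerSeries.Inverse
import Mathlib.RingTheory.Adjoin.FG
import Mathlib.RingTheory.TensorProduct.Basic
import Mathlib.RingTheory.Localization.AtPrime.Basic
import Groth.Agent.FlatMorLib.Approx

/-!
# Failure of lifting pairs is seen by a discrete valuation ring
-/

set_option autoImplicit false

universe u

open TensorProduct IsLocalRing

namespace Groth.Agent.SubtrLib

/-- No pair of primes over the generic and the closed point. -/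
def NoPair (V E : Type u) [CommRing V] [IsDomain V] [IsLocalRing V] [CommRing E] [Algebra V E] : Prop :=
  ∀ Q' Q : Ideal E, Q'.IsPrime → Q.IsPrime → Q' ≤ Q → Q'.comap (algebraMap V E) = ⊥ →
    Q.comap (algebraMap V E) ≠ maximalIdeal V

/-- Without pairs, the generic fibre is cut out away from the closed fibre. -/
theorem exists_separating {V E : Type u} [CommRing V] [IsDomain V] [IsLocalRing V] [CommRing E] [Algebra V E]
    (h : NoPair V E) : ∃ (s : V) (v : E), s ≠ 0 ∧ v ∈ (maximalIdeal V).map (algebraMap V E) ∧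
      algebraMap V E s * (1 - v) = 0 := by
  let J : Ideal E :=
    { carrier := {t | ∃ s : V, s ≠ 0 ∧ algebraMap V E s * t = 0}
      zero_mem' := ⟨1, one_ne_zero, mul_zero _⟩
      add_mem' := by
        rintro a b ⟨s, hs, ha⟩ ⟨s', hs', hb⟩
        exact ⟨s * s', mul_ne_zero hs hs', by rw [map_mul, mul_add, mul_right_comm, ha, zero_mul, zero_add,
          mul_assoc, hb, mul_zero]⟩
      smul_mem' := by
        rintro c a ⟨s, hs, ha⟩
        exact ⟨s, hs, by rw [smul_eq_mul, mul_left_comm, ha, mul_zero]⟩ }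
  by_cases htop : J ⊔ (maximalIdeal V).map (algebraMap V E) = ⊤
  · obtain ⟨t, ⟨s, hs, hst⟩, v, hv, htv⟩ := Submodule.mem_sup.1 ((Ideal.eq_top_iff_one _).1 htop)
    exact ⟨s, v, hs, hv, by rw [← htv, add_sub_cancel_right, hst]⟩
  exfalso
  obtain ⟨Q, hQ, hle⟩ := Ideal.exists_le_maximal _ htop
  rw [sup_le_iff] at hle
  let M : Submonoid E :=
    { carrier := {w | ∃ s : V, s ≠ 0 ∧ ∃ t, t ∉ Q ∧ w = algebraMap V E s * t}
      one_mem' := ⟨1, one_ne_zero, 1, hQ.isPrime.one_notMem, by simp⟩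
      mul_mem' := by
        rintro a b ⟨s, hs, t, ht, rfl⟩ ⟨s', hs', t', ht', rfl⟩
        exact ⟨s * s', mul_ne_zero hs hs', t * t', fun h => (hQ.isPrime.mem_or_mem h).elim ht ht',
          by rw [map_mul]; ring⟩ }
  have hdisj : Disjoint ((⊥ : Ideal E) : Set E) (M : Set E) := by
    rw [Set.disjoint_left]
    rintro a ha ⟨s, hs, t, ht, rfl⟩
    exact ht (hle.1 ⟨s, hs, ha⟩)
  obtain ⟨Q', hQ', -, hdis⟩ := Ideal.exists_le_prime_disjoint ⊥ M hdisj
  have hsub : Q' ≤ Q := fun x hx => by
    by_contra hxQ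
    exact Set.disjoint_left.1 hdis hx ⟨1, one_ne_zero, x, hxQ, by simp⟩
  refine h Q' Q hQ' hQ.isPrime hsub (eq_bot_iff.2 fun x hx => ?_)
    ((maximalIdeal.isMaximal V).eq_of_le (Ideal.comap_ne_top _ hQ.ne_top)
      (Ideal.map_le_iff_le_comap.1 hle.2)).symm
  by_contra hx0
  exact Set.disjoint_left.1 hdis (Ideal.mem_comap.1 hx) ⟨x, hx0, 1, hQ.isPrime.one_notMem, (mul_one _).symm⟩

open FlatMorLib.Approx in
/-- Enlarging the stage preserves the extended ideal. -/
theorem incT_mem {A V B : Type u} [CommRing A] [CommRing V] [Algebra A V] [CommRing B] [Algebra A B]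
    (m : Ideal V) {A₀ A₃ : Subalgebra A V} (h : A₀ ≤ A₃) (w : A₀ ⊗[A] B)
    (hw : w ∈ (m.comap A₀.val).map (algebraMap A₀ (A₀ ⊗[A] B))) :
    incT B h w ∈ (m.comap A₃.val).map (algebraMap A₃ (A₃ ⊗[A] B)) := by
  induction hw using Submodule.span_induction with
  | mem z hz =>
    obtain ⟨a, ha, rfl⟩ := hz
    have : incT B h (algebraMap A₀ (A₀ ⊗[A] B) a) = algebraMap A₃ (A₃ ⊗[A] B) (Subalgebra.inclusion h a) := by
      rw [Algebra.TensorProduct.algebraMap_apply, Algebra.TensorProduct.algebraMap_apply]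
      simp [incT]
    rw [this]
    exact Ideal.mem_map_of_mem _ ha
  | zero => rw [map_zero]; exact zero_mem _
  | add p q _ _ hp hq => rw [map_add]; exact add_mem hp hq
  | smul c p _ hp => rw [smul_eq_mul, map_mul]; exact Ideal.mul_mem_left _ _ hp

open FlatMorLib.Approx in
/-- Elements of the extended maximal ideal come from a finitely generated stage. -/
theorem exists_stage_mem {A V B : Type u} [CommRing A] [CommRing V] [Algebra A V] [CommRing B] [Algebra A B]
    (m : Ideal V) {v : V ⊗[A] B} (hv : v ∈ m.map (algebraMap V (V ⊗[A] B))) :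
    ∃ (A' : Subalgebra A V), A'.FG ∧ ∃ v' ∈ (m.comap A'.val).map (algebraMap A' (A' ⊗[A] B)), valT B A' v' = v := by
  classical
  induction hv using Submodule.span_induction with
  | mem x hx =>
    obtain ⟨a, ha, rfl⟩ := hx
    refine ⟨Algebra.adjoin A {a}, ⟨{a}, by simp⟩,
      algebraMap _ _ (⟨a, Algebra.subset_adjoin rfl⟩ : Algebra.adjoin A ({a} : Set V)),
      Ideal.mem_map_of_mem _ ha, ?_⟩
    rw [Algebra.TensorProduct.algebraMap_apply, Algebra.TensorProduct.algebraMap_apply]
    simp [valT]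
  | zero => exact ⟨⊥, Subalgebra.fg_bot, 0, zero_mem _, map_zero _⟩
  | add x y _ _ hx hy =>
    obtain ⟨A₁, hA₁, x', hx', rfl⟩ := hx
    obtain ⟨A₂, hA₂, y', hy', rfl⟩ := hy
    refine ⟨A₁ ⊔ A₂, hA₁.sup hA₂, (incT B (le_sup_left : A₁ ≤ A₁ ⊔ A₂)) x' + (incT B (le_sup_right : A₂ ≤ A₁ ⊔ A₂)) y', ?_, ?_⟩
    · exact add_mem (incT_mem m _ _ hx') (incT_mem m _ _ hy')
    · rw [map_add, valT_incT, valT_incT]
  | smul c x _ hx =>
    obtain ⟨A₁, hA₁, x', hx', rfl⟩ := hx
    obtain ⟨A₂, hA₂, hc⟩ := exists_fg_finset_subset ({c} : Finset (V ⊗[A] B))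
    obtain ⟨c', hc'⟩ := hc c (Finset.mem_singleton_self c)
    refine ⟨A₁ ⊔ A₂, hA₁.sup hA₂, (incT B (le_sup_right : A₂ ≤ A₁ ⊔ A₂)) c' * (incT B (le_sup_left : A₁ ≤ A₁ ⊔ A₂)) x', Ideal.mul_mem_left _ _ ?_, ?_⟩
    · exact incT_mem m _ _ hx'
    · rw [map_mul, valT_incT, valT_incT, smul_eq_mul]
      exact congrArg (· * _) hc'

/-- A discrete valuation ring dominating a noetherian local domain which is not a field. -/
theorem exists_dvr_over_local (C : Type u) [CommRing C] [IsDomain C] [IsNoetherianRing C] [IsLocalRing C]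
    (h : ∃ a ∈ maximalIdeal C, a ≠ 0) :
    ∃ (D : Type u) (_ : CommRing D) (_ : IsDomain D) (_ : IsDiscreteValuationRing D) (φ : C →+* D),
      Function.Injective φ ∧ IsLocalHom φ := by
  let L := FractionRing C
  obtain ⟨a, ha, ha0⟩ := h
  obtain ⟨R, hR, hCR, hlt⟩ := DVRDom.exists_dvr_dominating (A := C) (L := L) ∅ (by
      rw [Finset.coe_empty, Set.union_empty, eq_top_iff]
      intro z _
      obtain ⟨n, d, -, rfl⟩ := IsFractionRing.div_surjective C z
      exact div_mem (Subfield.subset_closure ⟨n, rfl⟩) (Subfield.subset_closure ⟨d, rfl⟩))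
    ⟨a, ha, (map_ne_zero_iff _ (IsFractionRing.injective C L)).2 ha0⟩
  refine ⟨R, inferInstance, inferInstance, hR, (algebraMap C L).codRestrict R.toSubring hCR, fun x y h =>
    IsFractionRing.injective C L (congrArg Subtype.val h), ⟨fun x hx => ?_⟩⟩
  by_contra hxu
  exact (ValuationSubring.coe_mem_nonunits_iff (A := R) (a := (algebraMap C L).codRestrict R.toSubring hCR x)).1
    (hlt x ((mem_maximalIdeal _).2 hxu)) hx

/-- A discrete valuation ring centred at any prime of a noetherian domain. -/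
theorem exists_dvr_centred (A : Type u) [CommRing A] [IsDomain A] [IsNoetherianRing A] (p : Ideal A) [p.IsPrime] :
    ∃ (D : Type u) (_ : CommRing D) (_ : IsDomain D) (_ : IsDiscreteValuationRing D) (φ : A →+* D),
      Function.Injective φ ∧ (maximalIdeal D).comap φ = p := by
  classical
  by_cases hp : p = ⊥
  · subst hp
    let K := FractionRing A
    refine ⟨PowerSeries K, inferInstance, inferInstance, inferInstance, PowerSeries.C.comp (algebraMap A K),
      PowerSeries.C_injective.comp (IsFractionRing.injective A K), ?_⟩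
    ext x
    rw [Ideal.mem_comap, mem_maximalIdeal, mem_nonunits_iff, RingHom.comp_apply, PowerSeries.isUnit_iff_constantCoeff,
      PowerSeries.constantCoeff_C, isUnit_iff_ne_zero, not_not, map_eq_zero_iff _ (IsFractionRing.injective A K),
      Ideal.mem_bot]
  let Ap := Localization.AtPrime p
  have : IsNoetherianRing Ap := IsLocalization.isNoetherianRing p.primeCompl Ap inferInstance
  have : IsDomain Ap := IsLocalization.isDomain_localization p.primeCompl_le_nonZeroDivisors
  have hinjA : Function.Injective (algebraMap A Ap) :=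
    IsLocalization.injective Ap (Ideal.primeCompl_le_nonZeroDivisors p)
  obtain ⟨a, ha, ha0⟩ := Submodule.exists_mem_ne_zero_of_ne_bot hp
  obtain ⟨D, _, _, _, φ, hφ, hloc⟩ := exists_dvr_over_local Ap
    ⟨algebraMap A Ap a, (IsLocalization.AtPrime.to_map_mem_maximal_iff Ap p a).2 ha,
      (map_ne_zero_iff _ hinjA).2 ha0⟩
  refine ⟨D, inferInstance, inferInstance, inferInstance, φ.comp (algebraMap A Ap), hφ.comp hinjA, ?_⟩
  ext x
  rw [Ideal.mem_comap, RingHom.comp_apply, mem_maximalIdeal, map_mem_nonunits_iff φ, ← mem_maximalIdeal,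
    IsLocalization.AtPrime.to_map_mem_maximal_iff Ap p x]

open FlatMorLib.Approx in
set_option maxHeartbeats 1000000 in
/-- Absence of pairs over a valuation ring persists over some discrete valuation ring. -/
theorem exists_dvr_noPair {A : Type u} [CommRing A] [IsNoetherianRing A] (V : Type u) [CommRing V] [IsDomain V]
    [IsLocalRing V] [Algebra A V] {ι : Type u} [Finite ι] (B : ι → Type u) [∀ i, CommRing (B i)]
    [∀ i, Algebra A (B i)] (h : ∀ i, NoPair V (V ⊗[A] B i)) :
    ∃ (D : Type u) (_ : CommRing D) (_ : IsDomain D) (_ : IsDiscreteValuationRing D) (_ : Algebra A D),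
      ∀ i, NoPair D (D ⊗[A] B i) := by
  classical
  have hi : ∀ i, ∃ (A' : Subalgebra A V), A'.FG ∧ ∃ (s : A') (v : A' ⊗[A] B i), s ≠ 0 ∧
      v ∈ ((maximalIdeal V).comap A'.val).map (algebraMap A' (A' ⊗[A] B i)) ∧
      algebraMap A' (A' ⊗[A] B i) s * (1 - v) = 0 := by
    intro i
    obtain ⟨s, v, hs, hv, hsv⟩ := exists_separating (h i)
    obtain ⟨A₁, hA₁, v', hv', rfl⟩ := exists_stage_mem (maximalIdeal V) hv
    let A₂ := A₁ ⊔ Algebra.adjoin A {s}
    have hA₂ : A₂.FG := hA₁.sup ⟨{s}, by simp⟩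
    let s₂ : A₂ := ⟨s, (le_sup_right : Algebra.adjoin A {s} ≤ A₂) (Algebra.subset_adjoin rfl)⟩
    let v₂ := incT (B i) (le_sup_left : A₁ ≤ A₂) v'
    obtain ⟨A₃, h23, hA₃, h3⟩ := exists_fg_eq hA₂
      (s := {(algebraMap A₂ (A₂ ⊗[A] B i) s₂ * (1 - v₂), (0 : A₂ ⊗[A] B i))}) (Set.finite_singleton _) (by
        rintro _ rfl
        rw [map_zero, map_mul, map_sub, map_one, valT_incT]
        refine Eq.trans ?_ hsv
        congr 1)
    refine ⟨A₃, hA₃, Subalgebra.inclusion h23 s₂, incT (B i) h23 v₂, ?_, ?_, ?_⟩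
    · intro h0
      exact hs (congrArg Subtype.val h0)
    · rw [incT_incT]
      exact incT_mem _ _ _ hv'
    · have := h3 _ rfl
      rw [map_zero, map_mul, map_sub, map_one] at this
      refine Eq.trans ?_ this
      congr 1
  choose A' hA' s v hs hv hsv using hi
  have := Fintype.ofFinite ι
  let T : Subalgebra A V := Finset.univ.sup A'
  have hT : T.FG := Finset.sup_induction Subalgebra.fg_bot (fun x hx y hy => hx.sup hy) fun i _ => hA' i
  have hle : ∀ i, A' i ≤ T := fun i => Finset.le_sup (Finset.mem_univ i)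
  have : Algebra.FiniteType A T := T.fg_iff_finiteType.mp hT
  have : IsNoetherianRing T := Algebra.FiniteType.isNoetherianRing A T
  obtain ⟨D, _, _, _, φ, hφ, hφp⟩ := exists_dvr_centred T ((maximalIdeal V).comap T.val)
  let : Algebra A D := (φ.comp (algebraMap A T)).toAlgebra
  refine ⟨D, inferInstance, inferInstance, inferInstance, inferInstance, fun i Q' Q hQ' hQ hle' h0 hm => ?_⟩
  let φA : T →ₐ[A] D := { φ with commutes' := fun x => rfl }
  let σ : A' i →ₐ[A] D := φA.comp (Subalgebra.inclusion (hle i))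
  let Ψ := Algebra.TensorProduct.map σ (AlgHom.id A (B i))
  have hΨ : ∀ a, Ψ (algebraMap (A' i) (A' i ⊗[A] B i) a) = algebraMap D (D ⊗[A] B i) (σ a) := fun a => by
    rw [Algebra.TensorProduct.algebraMap_apply, Algebra.TensorProduct.algebraMap_apply]
    simp [Ψ]
  have h1 : algebraMap D (D ⊗[A] B i) (σ (s i)) * (1 - Ψ (v i)) = 0 := by
    rw [← hΨ, ← map_one Ψ, ← map_sub, ← map_mul, hsv, map_zero]
  have hσs : σ (s i) ≠ 0 := fun h => hs i (Subtype.ext (congrArg (fun x : T => (x : V))
    (hφ (h.trans (map_zero φ).symm))))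
  have h2 : 1 - Ψ (v i) ∈ Q := hle' ((hQ'.mem_or_mem (h1.symm ▸ zero_mem Q')).resolve_left fun hmem =>
    hσs ((Ideal.mem_bot).1 (h0.le hmem)))
  have h3 : ∀ w ∈ ((maximalIdeal V).comap (A' i).val).map (algebraMap (A' i) (A' i ⊗[A] B i)), Ψ w ∈ Q := by
    intro w hw
    induction hw using Submodule.span_induction with
    | mem z hz =>
      obtain ⟨a, ha, rfl⟩ := hz
      rw [hΨ]
      refine hm.ge ?_
      show φ (Subalgebra.inclusion (hle i) a) ∈ maximalIdeal D
      exact hφp.ge ha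
    | zero => rw [map_zero]; exact zero_mem _
    | add p q _ _ hp hq => rw [map_add]; exact add_mem hp hq
    | smul d p _ hp => rw [smul_eq_mul, map_mul]; exact Ideal.mul_mem_left _ _ hp
  refine hQ.one_notMem ?_
  have := add_mem h2 (h3 _ (hv i))
  rwa [sub_add_cancel] at this

end Groth.Agent.SubtrLib
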